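import Mathlib.LinearAlgebra.Matrix.SpecialLinearGroup
import Mathlib.Data.ZMod.Basic
import Mathlib.Tactic

/-!
The root elements of the special linear group of degree three over three elements, indexed by the
flags of the projective plane, and a bound on the permutations of the flags preserving distance.
-/

set_option autoImplicit false
set_option maxRecDepth 100000

namespace Cfsg.Agent.Screen.ThreeThree

/-- Table. -/
def ptCoords : List (ℕ × ℕ × ℕ) := [
  (0, 0, 1), (0, 1, 0), (0, 1, 1), (0, 1, 2), (1, 0, 0), (1, 0, 1), (1, 0, 2),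
  (1, 1, 0), (1, 1, 1), (1, 1, 2), (1, 2, 0), (1, 2, 1), (1, 2, 2)]

/-- Table. -/
def flagPairs : List (ℕ × ℕ) := [
  (0, 1), (0, 4), (0, 7), (0, 10), (1, 0), (1, 4), (1, 5), (1, 6), (2, 3),
  (2, 4), (2, 9), (2, 11), (3, 2), (3, 4), (3, 8), (3, 12), (4, 0), (4, 1),
  (4, 2), (4, 3), (5, 1), (5, 6), (5, 9), (5, 12), (6, 1), (6, 5), (6, 8),
  (6, 11), (7, 0), (7, 10), (7, 11), (7, 12), (8, 3), (8, 6), (8, 8), (8, 10),
  (9, 2), (9, 5), (9, 9), (9, 10), (10, 0), (10, 7), (10, 8), (10, 9), (11, 2),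
  (11, 6), (11, 7), (11, 11), (12, 3), (12, 5), (12, 7), (12, 12)]

/-- Table. -/
def baseOrder : List (Fin 52) := [
  29, 35, 3, 39, 38, 37, 36, 47, 2, 4, 5, 6, 7, 8, 9, 10, 11, 12, 13, 14,
  15, 16, 17, 18, 19, 20, 21, 22, 23, 24, 25, 26, 27, 28, 30, 31, 32, 33, 34, 40,
  41, 42, 43, 44, 45, 46, 48, 49, 50, 51, 0, 1]

/-- Table. -/
def conjEntries : List (List (ZMod 3)) := [
  [0,1,0,0,0,1,1,0,0], [0,2,0,0,0,1,2,0,0], [0,0,1,0,2,0,1,0,0], [0,0,1,0,1,0,2,0,0],
  [0,1,0,0,2,1,1,0,0], [0,2,0,0,1,1,2,0,0], [0,2,0,0,2,1,2,0,0], [0,1,0,0,1,1,1,0,0],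
  [0,2,0,1,0,0,0,0,1], [0,1,0,1,0,0,0,0,2], [0,0,1,1,0,0,0,1,0], [0,0,1,2,0,0,0,2,0],
  [0,2,0,1,0,0,0,1,1], [0,1,0,1,0,0,0,2,2], [0,1,0,1,0,0,0,1,2], [0,2,0,1,0,0,0,2,1],
  [0,1,0,1,0,0,1,0,2], [0,2,0,1,0,0,1,0,1], [0,0,1,1,0,0,1,1,0], [0,0,1,2,0,0,2,2,0],
  [0,1,0,1,0,0,1,1,2], [0,2,0,1,0,0,1,2,1], [0,2,0,1,0,0,1,1,1], [0,1,0,1,0,0,1,2,2],
  [0,2,0,1,0,0,2,0,1], [0,1,0,1,0,0,2,0,2], [0,0,1,1,0,0,2,1,0], [0,0,1,2,0,0,1,2,0],
  [0,2,0,1,0,0,2,1,1], [0,1,0,1,0,0,2,2,2], [0,1,0,1,0,0,2,1,2], [0,2,0,1,0,0,2,2,1],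
  [1,0,0,0,1,0,0,0,1], [1,0,0,0,2,0,0,0,2], [1,0,0,0,0,1,0,2,0], [1,0,0,0,0,2,0,1,0],
  [1,0,0,0,1,0,0,2,1], [1,0,0,0,2,0,0,1,2], [1,0,0,0,2,0,0,2,2], [1,0,0,0,1,0,0,1,1],
  [1,0,0,0,0,1,1,2,0], [1,0,0,0,0,2,1,1,0], [1,0,0,0,2,0,1,0,2], [1,0,0,0,1,0,1,0,1],
  [1,0,0,0,2,0,1,2,2], [1,0,0,0,1,0,1,1,1], [1,0,0,0,2,0,1,1,2], [1,0,0,0,1,0,1,2,1],
  [1,0,0,0,0,1,2,2,0], [1,0,0,0,0,2,2,1,0], [1,0,0,0,1,0,2,0,1], [1,0,0,0,2,0,2,0,2],
  [1,0,0,0,1,0,2,2,1], [1,0,0,0,2,0,2,1,2], [1,0,0,0,1,0,2,1,1], [1,0,0,0,2,0,2,2,2],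
  [1,0,0,1,1,0,0,0,1], [1,0,0,1,2,0,0,0,2], [1,0,0,1,0,2,0,1,0], [1,0,0,1,0,1,0,2,0],
  [1,0,0,1,1,0,0,1,1], [1,0,0,1,2,0,0,2,2], [1,0,0,1,2,0,0,1,2], [1,0,0,1,1,0,0,2,1],
  [1,0,0,1,2,0,1,2,2], [1,0,0,1,1,0,1,1,1], [1,0,0,1,2,0,1,0,2], [1,0,0,1,1,0,1,0,1],
  [1,0,0,1,1,0,1,2,1], [1,0,0,1,2,0,1,1,2], [1,0,0,1,0,2,1,1,0], [1,0,0,1,0,1,1,2,0],
  [1,0,0,1,1,0,2,2,1], [1,0,0,1,2,0,2,1,2], [1,0,0,1,1,0,2,0,1], [1,0,0,1,2,0,2,0,2],
  [1,0,0,1,2,0,2,2,2], [1,0,0,1,1,0,2,1,1], [1,0,0,1,0,2,2,1,0], [1,0,0,1,0,1,2,2,0],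
  [1,0,0,2,1,0,0,0,1], [1,0,0,2,2,0,0,0,2], [1,0,0,2,0,1,0,2,0], [1,0,0,2,0,2,0,1,0],
  [1,0,0,2,1,0,0,2,1], [1,0,0,2,2,0,0,1,2], [1,0,0,2,2,0,0,2,2], [1,0,0,2,1,0,0,1,1],
  [1,0,0,2,1,0,1,2,1], [1,0,0,2,2,0,1,1,2], [1,0,0,2,2,0,1,0,2], [1,0,0,2,1,0,1,0,1],
  [1,0,0,2,0,1,1,2,0], [1,0,0,2,0,2,1,1,0], [1,0,0,2,1,0,1,1,1], [1,0,0,2,2,0,1,2,2],
  [1,0,0,2,2,0,2,2,2], [1,0,0,2,1,0,2,1,1], [1,0,0,2,1,0,2,0,1], [1,0,0,2,2,0,2,0,2],
  [1,0,0,2,0,1,2,2,0], [1,0,0,2,0,2,2,1,0], [1,0,0,2,2,0,2,1,2], [1,0,0,2,1,0,2,2,1]]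

/-- Table. -/
def distRows : List ℕ := [
  19009802104150661986295079500628,
  19009802104150686005490228831825,
  12248999305908735735718968294213,
  19009801701175436819813281561365,
  19964155026965389843661082809595,
  19964257785666181982997797294502,
  13229863570552538318255129576955,
  19937951558263394312433822275067,
  13448903138398461299848228699131,
  20183296953678903241928422303398,
  20183193793583084861071666052091,
  20156990727837940090221993786363,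
  15185171742657721615591010991099,
  15211478369893686990717476841126,
  15211375609631022575599098788859,
  8477084556175093306313527786491,
  20202767983760087419836396644862,
  20202870742460855539965076897449,
  20176564115224914183982170439422,
  13468476927180437616822334390014,
  15210491815810725317942956769193,
  15184185588407961663275596212990,
  15210388655714930939788676218878,
  8476098002092155583465931128830,
  19945670550967118169783811436457,
  13211276335853497679811362921214,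
  19945567790704473551736133382142,
  19919364325126161304349003411454,
  15191895891065313417360138283455,
  15191998246790640198237791714922,
  15165692423924061541079859265215,
  8457604836042972243869520887487,
  13467530039186397297285100322751,
  20175617627008711336580190464703,
  20201821093927473663141474123711,
  20201923450329445177044645101418,
  19938803062791972495665340084159,
  13230715460747194757440252910271,
  19965006459096622246890422595519,
  19965108989543600264327260532586,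
  19009600441091932294019688671727,
  12248896774773315319697618501274,
  19009582305642765798800605839087,
  19009523877370270330861641203439,
  18961831824842237113361183522799,
  18960903769645950782717550357231,
  12222693378688932042685567451034,
  18942334670618494597451613913071,
  6729437197371549911089230245871,
  6491752309995555175646124481263,
  5514605776696076519495004254106,
  1738062960534744900373212753903]
/-- Three by three matrices over three elements. -/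
abbrev Mat : Type := Matrix (Fin 3) (Fin 3) (ZMod 3)

/-- The coordinates of a point or line. -/
def coord (p : ℕ) (i : Fin 3) : ZMod 3 :=
  let v := ptCoords.getD p (0, 0, 0)
  ((if i.val = 0 then v.1 else if i.val = 1 then v.2.1 else v.2.2 : ℕ) : ZMod 3)

/-- The indices of the root elements. -/
abbrev Idx : Type := Fin 52 × Fin 2

/-- The root element of an index. -/
def rootMat (x : Idx) : Mat :=
  Matrix.of fun i j => (if i = j then 1 else 0) +
    ((x.2.val + 1 : ℕ) : ZMod 3) * coord (flagPairs.getD x.1.val (0, 0)).1 i * coord (flagPairs.getD x.1.val (0, 0)).2 j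

/-- The conjugator of an index. -/
def conjMat (x : Idx) : Mat :=
  Matrix.of fun i j => (conjEntries.getD (2 * x.1.val + x.2.val) []).getD (3 * i.val + j.val) 0

/-- The highest root element. -/
def topRoot : Mat := !![1, 0, 1; 0, 1, 0; 0, 0, 1]

/-- The determinant. -/
def det3 (A : Mat) : ZMod 3 :=
  A 0 0 * A 1 1 * A 2 2 - A 0 0 * A 1 2 * A 2 1 - A 0 1 * A 1 0 * A 2 2 + A 0 1 * A 1 2 * A 2 0 +
    A 0 2 * A 1 0 * A 2 1 - A 0 2 * A 1 1 * A 2 0

theorem det_eq (A : Mat) : A.det = det3 A := Matrix.det_fin_three A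

/-- Two flags share a point or a line, or are equal. -/
abbrev near (k l : Fin 52) : Prop :=
  (flagPairs.getD k.val (0, 0)).1 = (flagPairs.getD l.val (0, 0)).1 ∨
    (flagPairs.getD k.val (0, 0)).2 = (flagPairs.getD l.val (0, 0)).2

/-- The distance. -/
def dist (k l : Fin 52) : ℕ := distRows.getD k.val 0 / 4 ^ l.val % 4

theorem dist_spec : ∀ k l : Fin 52, (dist k l = 0 ↔ k = l) ∧ (dist k l ≤ 1 ↔ near k l) ∧
    (dist k l ≤ 2 ↔ ∃ z, near k z ∧ near z l) ∧ dist k l ≤ 3 := by decide +kernel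

theorem root_det : ∀ x : Idx, det3 (rootMat x) = 1 ∧ rootMat x ≠ 1 := by decide +kernel

theorem root_injective : ∀ x y : Idx, rootMat x = rootMat y → x = y := by decide +kernel

theorem root_comm : ∀ x y : Idx, rootMat x * rootMat y = rootMat y * rootMat x ↔ near x.1 y.1 := by
  decide +kernel

theorem root_pair : ∀ x : Idx, rootMat x * rootMat (x.1, x.2 + 1) = 1 := by decide +kernel

theorem root_conj : ∀ x : Idx, det3 (conjMat x) = 1 ∧ conjMat x * topRoot = rootMat x * conjMat x ∧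
    (rootMat x - 1) * (rootMat x - 1) = 0 := by decide +kernel

theorem near_separates : ∀ k l : Fin 52, (∀ z, near k z → near l z) → k = l := by decide +kernel

theorem far_connected : ∀ k l : Fin 52, ∃ z w, ¬ near k z ∧ ¬ near z w ∧ ¬ near w l := by decide +kernel

set_option synthInstance.maxSize 4000 in
set_option synthInstance.maxHeartbeats 400000 in
/-- Square-zero nonzero matrices come from root elements. -/
theorem classify_entries : ∀ a b c d e f g h i : ZMod 3,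
    a * a + b * d + c * g = 0 → a * b + b * e + c * h = 0 → a * c + b * f + c * i = 0 →
    d * a + e * d + f * g = 0 → d * b + e * e + f * h = 0 → d * c + e * f + f * i = 0 →
    g * a + h * d + i * g = 0 → g * b + h * e + i * h = 0 → g * c + h * f + i * i = 0 →
    ¬ (a = 0 ∧ b = 0 ∧ c = 0 ∧ d = 0 ∧ e = 0 ∧ f = 0 ∧ g = 0 ∧ h = 0 ∧ i = 0) →
    ∃ x : Idx, rootMat x = !![a + 1, b, c; d, e + 1, f; g, h, i + 1] := by decide +kernel

/-- The candidates. -/
def cands (pre : List (Fin 52)) (v : Fin 52) : List (Fin 52) :=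
  (List.finRange 52).filter fun y => pre.all fun p => dist y p == dist v p

/-- The product of the candidate counts. -/
def bound : List (Fin 52) → List (Fin 52) → ℕ
  | _, [] => 1
  | pre, v :: l => (cands pre v).length * bound (pre ++ [v]) l

theorem bound_base : bound [] baseOrder = 11232 ∧ ∀ k : Fin 52, k ∈ baseOrder := by decide +kernel

end Cfsg.Agent.Screen.ThreeThree
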